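import Cfsg.Agent.H419.EP.Soc
import Cfsg.Agent.H392.UG.Base
import Cfsg.Agent.S0813
import Cfsg.Agent.S0243
import Cfsg.Agent.ClassicalGeometry.PSL2Basic

/-!
# S3499, row S5818 + S5821: socle `L₃(4)` in dimension 8 (helper107)

* `card_le_mul` : `|S| ≤ |Q| (|F| - 1)` for a model `m : Model Q S`;
* `pow_le_SL`, `pow_le_SU` : `q ^ (n (n - 1))` is at most `|Q| (q - 1) ^ 2`, resp. `|Q| (q ^ 2 - 1)`;
* `card_aut_l34` : `|Aut(L₃(4))| = 241920`;
* `row_lin`, `row_uni` : the rows, from the lists (S5818, S5821) and a bound for the index of `A`.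
-/

set_option autoImplicit false

namespace Cfsg.Agent.H107.EP

open Subgroup Cfsg Cfsg.Agent.H284 Cfsg.Agent.H419.EP
open scoped MatrixGroups

section Order

variable {Q : Type*} [Group Q] {ι : Type} [Fintype ι] [DecidableEq ι] {F : Type*} [Field F] [Fintype F]

theorem card_scalars_le : Nat.card (Cfsg.Geo.scalars ι F) ≤ Fintype.card F - 1 := by
  have h1 : Nat.card (Cfsg.Geo.scalars ι F) ≤ Nat.card Fˣ :=
    Nat.card_le_card_of_surjective (Units.map (Matrix.scalar ι : F →+* Matrix ι ι F).toMonoidHom).rangeRestrict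
      (MonoidHom.rangeRestrict_surjective _)
  refine h1.trans (le_of_eq ?_)
  rw [Nat.card_units, Nat.card_eq_fintype_card]

/-- `|S| ≤ |Q| (|F| - 1)` -/
theorem card_le_mul {S : Subgroup (GL ι F)} (m : Model Q S) :
    Nat.card S ≤ Nat.card Q * (Fintype.card F - 1) := by
  classical
  have h1 := Subgroup.card_eq_card_quotient_mul_card_subgroup m.π.ker
  have h2 : Nat.card (S ⧸ m.π.ker) = Nat.card Q :=
    Nat.card_congr (QuotientGroup.quotientKerEquivOfSurjective m.π m.surj).toEquiv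
  have h3 : Nat.card m.π.ker ≤ Nat.card (Cfsg.Geo.scalars ι F) := by
    let f : m.π.ker → Cfsg.Geo.scalars ι F := fun s => ⟨((s : S) : GL ι F), (m.ker s).1 s.2⟩
    refine Nat.card_le_card_of_injective f ?_
    intro a b hab
    have h4 : (((a : S) : GL ι F)) = ((b : S) : GL ι F) :=
      congrArg (fun y : Cfsg.Geo.scalars ι F => (y : GL ι F)) hab
    exact Subtype.ext (Subtype.ext h4)
  rw [h1, h2]
  exact Nat.mul_le_mul_left _ (h3.trans card_scalars_le)

/-- a lower bound for `|SL_n(q)|` -/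
theorem pow_le_card_SL {n : ℕ} (hn : 1 ≤ n) :
    Fintype.card F ^ (n * (n - 1)) ≤ Nat.card (Cfsg.Geo.specialLinear (Fin n) F) * (Fintype.card F - 1) := by
  classical
  have hq := Fintype.one_lt_card (α := F)
  have h1 := Subgroup.card_eq_card_quotient_mul_card_subgroup
    (Matrix.GeneralLinearGroup.det : GL (Fin n) F →* Fˣ).ker
  have h2 : Nat.card (GL (Fin n) F ⧸ (Matrix.GeneralLinearGroup.det : GL (Fin n) F →* Fˣ).ker) ≤
      Fintype.card F - 1 := by
    rw [Nat.card_congr (QuotientGroup.quotientKerEquivRange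
      (Matrix.GeneralLinearGroup.det : GL (Fin n) F →* Fˣ)).toEquiv]
    refine (Nat.card_le_card_of_injective _ (Subgroup.subtype_injective _)).trans (le_of_eq ?_)
    rw [Nat.card_units, Nat.card_eq_fintype_card]
  have h3 : Fintype.card F ^ (n * (n - 1)) ≤ Nat.card (GL (Fin n) F) := by
    rw [Matrix.card_GL_field]
    calc Fintype.card F ^ (n * (n - 1)) = ∏ _i : Fin n, Fintype.card F ^ (n - 1) := by
          rw [Finset.prod_const, Finset.card_univ, Fintype.card_fin, ← pow_mul, mul_comm]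
      _ ≤ ∏ i : Fin n, (Fintype.card F ^ n - Fintype.card F ^ (i : ℕ)) := by
          refine Finset.prod_le_prod' fun i _ => ?_
          have h4 : Fintype.card F ^ (i : ℕ) ≤ Fintype.card F ^ (n - 1) :=
            Nat.pow_le_pow_right (by omega) (by omega)
          have h5 : 2 * Fintype.card F ^ (n - 1) ≤ Fintype.card F ^ n := by
            obtain ⟨k, rfl⟩ : ∃ k, n = k + 1 := ⟨n - 1, by omega⟩
            rw [show k + 1 - 1 = k by omega, pow_succ, mul_comm]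
            exact Nat.mul_le_mul_left _ hq
          omega
  refine h3.trans ?_
  rw [h1, mul_comm]
  exact Nat.mul_le_mul_left _ h2

theorem pow_le_SL {n : ℕ} (hn : 1 ≤ n) (m : Model Q (Cfsg.Geo.specialLinear (Fin n) F)) :
    Fintype.card F ^ (n * (n - 1)) ≤ Nat.card Q * (Fintype.card F - 1) ^ 2 := by
  refine (pow_le_card_SL hn).trans ?_
  rw [pow_two, ← mul_assoc]
  exact Nat.mul_le_mul_right _ (card_le_mul m)

theorem pow_le_SU {n q : ℕ} (hF : Fintype.card F = q ^ 2) (hn : 1 ≤ n)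
    (m : Model Q (Cfsg.GU n F q ⊓ Cfsg.Geo.specialLinear (Fin n) F)) :
    q ^ (n * (n - 1)) ≤ Nat.card Q * (q ^ 2 - 1) := by
  have hq : 2 ≤ q := by
    by_contra hcon
    have h1 := Fintype.one_lt_card (α := F)
    have h2 : q ^ 2 ≤ 1 ^ 2 := Nat.pow_le_pow_left (by omega) 2
    omega
  have h1 := card_le_mul m
  have h2 := H392.UG.card_ge hF hn hq
  rw [hF] at h1
  refine le_trans (le_of_eq ?_) (h2.trans h1)
  congr 1
  have h3 : 2 ∣ n * (n - 1) := by
    obtain ⟨k, rfl⟩ : ∃ k, n = k + 1 := ⟨n - 1, by omega⟩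
    rw [show k + 1 - 1 = k by omega, mul_comm]
    exact (Nat.even_mul_succ_self k).two_dvd
  omega

end Order

/-! ### `L₃(4)` -/

theorem card_l34 {K : Type*} [Field K] [Fintype K] (hK : Fintype.card K = 4) :
    Nat.card (Matrix.ProjectiveSpecialLinearGroup (Fin 3) K) = 20160 := by
  have h := S0243.result (F := K) hK 3 (by norm_num)
  rw [show Nat.gcd 3 (4 - 1) = 3 by decide, Fin.prod_univ_three] at h
  norm_num at h
  omega

theorem card_aut_l34 {K : Type*} [Field K] [Fintype K] (hK : Fintype.card K = 4) :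
    Nat.card (MulAut (Matrix.ProjectiveSpecialLinearGroup (Fin 3) K)) = 241920 := by
  classical
  have : Fact (Nat.Prime 2) := ⟨Nat.prime_two⟩
  have h1 := S0813.result (F := K) 2 2 (by norm_num) (by rw [hK]; norm_num) 3 (by norm_num) (by norm_num)
  have h2 : Nat.card (Matrix.ProjGenLinGroup (Fin 3) K) * (Fintype.card K - 1) = Nat.card (GL (Fin 3) K) :=
    ClassicalGeometry.PSL2Basic.card_PGL_mul (Fin 3) K
  rw [Matrix.card_GL_field, hK, Fin.prod_univ_three] at h2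
  norm_num at h2
  have h3 : Nat.card (Matrix.ProjGenLinGroup (Fin 3) K) = 60480 := by omega
  rw [h1, h3]
  norm_num

theorem HasSoc.dvd_aut {Q : Type*} [Group Q] [Finite Q] {A : Subgroup Q} {L : Type*} [Group L] [Finite L]
    (h : HasSoc A L) : Nat.card A ∣ Nat.card (MulAut L) := by
  obtain ⟨f, hf⟩ := h.exists_hom
  rw [Nat.card_congr (MonoidHom.ofInjective hf).toEquiv]
  exact Subgroup.card_subgroup_dvd_card _

theorem card_of_soc {Q : Type*} [Group Q] [Finite Q] {A : Subgroup Q} {K : Type} [Field K] [Fintype K]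
    (hK : Fintype.card K = 4) (h : HasSoc A (Matrix.ProjectiveSpecialLinearGroup (Fin 3) K)) :
    ∃ k, k ∣ 12 ∧ Nat.card A = 20160 * k := by
  have h1 := HasSoc.dvd_aut h
  have h2 := h.card_dvd
  rw [card_aut_l34 hK] at h1
  rw [card_l34 hK] at h2
  obtain ⟨k, hk⟩ := h2
  refine ⟨k, ?_, hk⟩
  rw [hk, show 241920 = 20160 * 12 by norm_num] at h1
  exact Nat.dvd_of_mul_dvd_mul_left (by norm_num) h1

/-- the index bound for the socle `L₃(4)` -/
def L34 : Prop := ∀ {Q : Type} [Group Q] [Finite Q], IsSimpleGroup Q → ∀ {A : Subgroup Q} {Γ : Subgroup (MulAut Q)},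
  EPT A Γ → ∀ {K : Type} [Field K] [Fintype K], Fintype.card K = 4 →
    HasSoc A (Matrix.ProjectiveSpecialLinearGroup (Fin 3) K) → A.index ≤ 10 ^ 32

/-- the list of S5818 (weak form) -/
def ListL : Prop := ∀ {F : Type} [Field F] [Fintype F] (H : Subgroup (Matrix.GeneralLinearGroup (Fin 8) F)),
    Cfsg.Geo.IsMaximalIn (Cfsg.Geo.specialLinear (Fin 8) F) H → Cfsg.Geo.InLinearResidualClass H →
    ∃ (P : Subgroup (Matrix.GeneralLinearGroup (Fin 8) F)) (p : ℕ), Cfsg.Geo.IsResidualCore H P ∧ p.Prime ∧ CharP F p ∧ (∃ (K : Type) (_ : Field K) (_ : Fintype K), Fintype.card K = 4 ∧ Nonempty ((P ⧸ (Cfsg.Geo.scalars (Fin 8) F).subgroupOf P) ≃* Matrix.ProjectiveSpecialLinearGroup (Fin 3) K)) ∧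
    ((Fintype.card F = p ∧ (p = 5 ∨ p % 80 = 9 ∨ p % 80 = 21 ∨ p % 80 = 29 ∨ p % 80 = 41 ∨ p % 80 = 61 ∨ p % 80 = 69 ∨ p % 80 = 1 ∨ p % 80 = 49)) ∨
     (Fintype.card F = p ^ 2 ∧ (p % 80 = 3 ∨ p % 80 = 77 ∨ p % 80 = 13 ∨ p % 80 = 67 ∨ p % 80 = 27 ∨ p % 80 = 53 ∨ p % 80 = 37 ∨ p % 80 = 43 ∨ p % 80 = 7 ∨ p % 80 = 73 ∨ p % 80 = 17 ∨ p % 80 = 63 ∨ p % 80 = 23 ∨ p % 80 = 57 ∨ p % 80 = 33 ∨ p % 80 = 47)))

/-- the list of S5821 -/
def ListU : Prop := ∀ {F : Type} [Field F] [Fintype F] (q : ℕ), Fintype.card F = q ^ 2 →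
    ∀ (H : Subgroup (Matrix.GeneralLinearGroup (Fin 8) F)),
    Cfsg.Geo.IsMaximalIn (Cfsg.GU 8 F q ⊓ Cfsg.Geo.specialLinear (Fin 8) F) H → Cfsg.Geo.InUnitaryResidualClass H →
    ∃ P : Subgroup (Matrix.GeneralLinearGroup (Fin 8) F), Cfsg.Geo.IsResidualCore H P ∧ q.Prime ∧ (q % 80 = 11 ∨ q % 80 = 19 ∨ q % 80 = 39 ∨ q % 80 = 51 ∨ q % 80 = 59 ∨ q % 80 = 71 ∨ q % 80 = 31 ∨ q % 80 = 79) ∧
    (∃ (K : Type) (_ : Field K) (_ : Fintype K), Fintype.card K = 4 ∧ Nonempty ((P ⧸ (Cfsg.Geo.scalars (Fin 8) F).subgroupOf P) ≃* Matrix.ProjectiveSpecialLinearGroup (Fin 3) K))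

section Rows

variable {Q : Type} [Group Q] [Finite Q] {A : Subgroup Q} {Γ : Subgroup (MulAut Q)}

theorem core (hL : L34) (hs : IsSimpleGroup Q) (h : EPT A Γ) {K : Type} [Field K] [Fintype K]
    (hK : Fintype.card K = 4) (hsoc : HasSoc A (Matrix.ProjectiveSpecialLinearGroup (Fin 3) K)) {q : ℕ} (hq : 5 ≤ q)
    (hQ : q ^ 54 ≤ Nat.card Q) : False := by
  have h1 := hL hs h hK hsoc
  obtain ⟨k, hk, hA⟩ := card_of_soc hK hsoc
  have hk12 : k ≤ 12 := Nat.le_of_dvd (by norm_num) hk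
  have h2 := A.card_mul_index
  rw [hA] at h2
  have h3 : 5 ^ 54 ≤ q ^ 54 := Nat.pow_le_pow_left hq 54
  have h4 : 20160 * k * A.index ≤ 20160 * 12 * 10 ^ 32 :=
    Nat.mul_le_mul (Nat.mul_le_mul_left _ hk12) h1
  rw [h2] at h4
  have h5 : 20160 * 12 * 10 ^ 32 < 5 ^ 54 := by norm_num
  omega

/-- **the row S5818** -/
theorem row_lin (hL : L34) (hl : ListL) (hs : IsSimpleGroup Q) (h : EPT A Γ) {F : Type} [Field F] [Fintype F]
    (m : Model Q (Cfsg.Geo.specialLinear (Fin 8) F)) (hres : Cfsg.Geo.InLinearResidualClass (m.hat A)) : False := by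
  obtain ⟨P, p, hP, hp, hpF, ⟨K, _, _, hK, ⟨e⟩⟩, hq⟩ := hl (m.hat A) (m.isMaximalIn h.max) hres
  have hsoc := (hasSoc_of_core m hP).congr e
  have hq5 : 5 ≤ Fintype.card F := by
    rcases hq with ⟨hF, hq⟩ | ⟨hF, hq⟩
    · rw [hF]
      have hp2 := hp.two_le
      omega
    · rw [hF]
      have hp2 := hp.two_le
      have hp3 : 3 ≤ p := by
        rcases hp2.eq_or_lt with h2 | h2
        · subst h2
          omega
        · exact h2
      calc 5 ≤ 3 ^ 2 := by norm_num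
        _ ≤ p ^ 2 := Nat.pow_le_pow_left hp3 2
  refine core hL hs h hK hsoc hq5 ?_
  have h1 := pow_le_SL (by norm_num) m
  obtain ⟨q, hq⟩ : ∃ q, q = Fintype.card F := ⟨_, rfl⟩
  rw [← hq] at h1 hq5 ⊢
  have h2 : (q - 1) ^ 2 ≤ q ^ 2 := Nat.pow_le_pow_left (by omega) 2
  have h3 : q ^ 54 * q ^ 2 ≤ Nat.card Q * q ^ 2 := by
    calc q ^ 54 * q ^ 2 = q ^ (8 * (8 - 1)) := by rw [← pow_add]
      _ ≤ Nat.card Q * (q - 1) ^ 2 := h1
      _ ≤ Nat.card Q * q ^ 2 := Nat.mul_le_mul_left _ h2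
  exact Nat.le_of_mul_le_mul_right h3 (pow_pos (by omega) 2)

/-- **the row S5821** -/
theorem row_uni (hL : L34) (hl : ListU) (hs : IsSimpleGroup Q) (h : EPT A Γ) {F : Type} [Field F] [Fintype F] {q : ℕ}
    (m : Model Q (Cfsg.GU 8 F q ⊓ Cfsg.Geo.specialLinear (Fin 8) F)) (hF : Fintype.card F = q ^ 2)
    (hres : Cfsg.Geo.InUnitaryResidualClass (m.hat A)) : False := by
  obtain ⟨P, hP, hp, hq, ⟨K, _, _, hK, ⟨e⟩⟩⟩ := hl q hF (m.hat A) (m.isMaximalIn h.max) hres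
  have hsoc := (hasSoc_of_core m hP).congr e
  have hq5 : 5 ≤ q := by omega
  refine core hL hs h hK hsoc hq5 ?_
  have h1 := pow_le_SU hF (by norm_num) m
  have h2 : q ^ 2 - 1 ≤ q ^ 2 := by omega
  have h3 : q ^ 54 * q ^ 2 ≤ Nat.card Q * q ^ 2 := by
    calc q ^ 54 * q ^ 2 = q ^ (8 * (8 - 1)) := by rw [← pow_add]
      _ ≤ Nat.card Q * (q ^ 2 - 1) := h1
      _ ≤ Nat.card Q * q ^ 2 := Nat.mul_le_mul_left _ h2
  exact Nat.le_of_mul_le_mul_right h3 (pow_pos (by omega) 2)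

end Rows

end Cfsg.Agent.H107.EP
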