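import Cfsg.Agent.H107.EP.EightUB
import Cfsg.Agent.H59.EP.UBFin
import Cfsg.Agent.S5818
import Cfsg.Agent.S5821

/-!
# S3499, rows S5818 and S5821 without hypotheses (helper107)
-/

set_option autoImplicit false

namespace Cfsg.Agent.H107.EP

open Subgroup Cfsg Cfsg.Agent.H284 Cfsg.Agent.H419.EP

theorem l34 : L34 := l34_of H59.EP.twoGen

/-- **S5818**: `SL₈(q)` -/
theorem row_5818 {Q : Type} [Group Q] [Finite Q] (hs : IsSimpleGroup Q) {A : Subgroup Q} {Γ : Subgroup (MulAut Q)}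
    (h : EPT A Γ) {F : Type} [Field F] [Fintype F] (m : Model Q (Cfsg.Geo.specialLinear (Fin 8) F))
    (hres : Cfsg.Geo.InLinearResidualClass (m.hat A)) : False :=
  row_lin l34 (fun H hH hS => S5818.result H hH hS) hs h m hres

/-- **S5821**: `SU₈(q)` -/
theorem row_5821 {Q : Type} [Group Q] [Finite Q] (hs : IsSimpleGroup Q) {A : Subgroup Q} {Γ : Subgroup (MulAut Q)}
    (h : EPT A Γ) {F : Type} [Field F] [Fintype F] {q : ℕ}
    (m : Model Q (Cfsg.GU 8 F q ⊓ Cfsg.Geo.specialLinear (Fin 8) F)) (hF : Fintype.card F = q ^ 2)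
    (hres : Cfsg.Geo.InUnitaryResidualClass (m.hat A)) : False :=
  row_uni l34 (fun q hF H hH hS => S5821.result q hF H hH hS) hs h m hF hres

end Cfsg.Agent.H107.EP
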